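import Cfsg.Agent.FusSys.Commuting.System
import Cfsg.Agent.FusSys.AMap.Meet.Lift
import Cfsg.Agent.FusSys.Sub
import Mathlib.GroupTheory.PGroup

/-!
The Frattini condition for a subsystem over a strongly closed subgroup from a splitting of the
automorphism groups at fully normalized subgroups; the case of the central product.
-/

set_option autoImplicit false
set_option linter.unusedSectionVars false
set_option linter.style.haveILetI false
set_option linter.unusedVariables false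
set_option maxHeartbeats 400000

namespace Cfsg.Agent.FusSys.Commuting

open Cfsg Cfsg.FusionSystem Cfsg.Agent.FusSys

universe u

variable {Ω : Type u} [Group Ω] {S T T₁ T₂ : Subgroup Ω} {F : FusionSystem S}
variable {E₁ : FusionSystem T₁} {E₂ : FusionSystem T₂}
variable {P Q R : Subgroup Ω} {f g : Ω → Ω} {p : ℕ}

/-- The Frattini condition, from a splitting at fully normalized subgroups. -/
theorem frattini_of_split [Fact p.Prime] [Finite S] (hS : IsPGroup p S) (hF : F.IsSaturated p)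
    (hT : F.StronglyClosed T) {D : FusionSystem T} (hC : TransInv D F)
    (hsplit : ∀ P : Subgroup Ω, P ≤ T → P ≠ T → F.IsFullyNormalized P → ∀ a ∈ F.autGroup P,
      ∃ e ∈ D.autGroup P, ∃ Y g, P < Y ∧ Y ≤ T ∧ Mor F Y g ∧
        ∀ x ∈ P, apl a x = g (apl e x)) :
    ∀ P : Subgroup Ω, P ≤ T → ∀ f, Mor F P f → FrattiniRel D F P f := by
  haveI := finite_of_le hT.1
  suffices H : ∀ d, ∀ P : Subgroup Ω, P ≤ T → Nat.card T - Nat.card P ≤ d → ∀ f, Mor F P f →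
      FrattiniRel D F P f from fun P hP f hf => H _ P hP le_rfl f hf
  intro d
  induction d using Nat.strong_induction_on with
  | _ d ih =>
    intro P hP hd f hf
    by_cases hPT : P = T
    · subst hPT
      obtain ⟨β, hβ, hβx⟩ := (StronglyClosed.iso_self hT hf le_rfl).exists_mem_autGroup
      exact ⟨β, hβ, id, mor_id le_rfl, fun x hx => (hβx x hx).symm⟩
    have hPS : P ≤ S := hP.trans hT.1
    have hbig : ∀ R Y g, R ≤ T → Nat.card R = Nat.card P → R < Y → Y ≤ T → Mor F Y g →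
        FrattiniRel D F R g := fun R Y g hR hc hlt hY hg => by
      refine FrattiniRel.mono (ih (Nat.card T - Nat.card Y) ?_ Y hY le_rfl g hg) hlt.le
      have h1 := card_lt_of_lt' (hY.trans hT.1) hlt
      have h2 : Nat.card Y ≤ Nat.card T := Subgroup.card_le_of_le hY
      omega
    have hlt : ∀ R : Subgroup Ω, R ≤ T → Nat.card R = Nat.card P → R < normalizerIn T R := by
      intro R hR hc
      refine lt_inf_normalizer (hS.to_le hT.1) le_rfl (lt_of_le_of_ne hR fun e => hPT ?_)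
      exact Subgroup.eq_of_le_of_card_ge hP (le_of_eq (e ▸ hc))
    have hstep : ∀ R g, R ≤ T → Nat.card R = Nat.card P → Mor F (normalizerIn S R) g →
        FrattiniRel D F R g := fun R g hR hc hg =>
      hbig R _ g hR hc (hlt R hR hc) (normalizerIn_le _ _) (hg.mono (inf_le_inf_right _ hT.1))
    obtain ⟨P₁, k, hP₁n, hk, hki, -⟩ := exists_fullyNormalized_mor hS hF hPS
    have hP₁T : P₁ ≤ T := AM.iso_le_T hT hki hP
    obtain ⟨P₂, hP₂⟩ := hf.exists_iso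
    have hP₂T : P₂ ≤ T := AM.iso_le_T hT hP₂ hP
    obtain ⟨k₂, hk₂, hk₂i, -⟩ :=
      exists_mor_to_fullyNormalized hS hF hP₁n (isConj_trans (isConj_symm hP₂.isConj) hki.isConj)
    have hF1 : FrattiniRel D F P k := hstep P k hP rfl hk
    have hF2 : FrattiniRel D F P₂ k₂ := hstep P₂ k₂ hP₂T hP₂.card_eq.symm hk₂
    obtain ⟨k', hk', hk'l, hk'r⟩ := hki.symm
    obtain ⟨k₂', hk₂', hk₂'l, -⟩ := hk₂i.symm
    obtain ⟨a, ha, hax⟩ := ((hk'.comp hP₂).comp hk₂i).exists_mem_autGroup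
    have hc₁ : Nat.card P₁ = Nat.card P := hki.card_eq.symm
    have hP₁ne : P₁ ≠ T := fun e => hPT (eq_of_le_of_card hT.1 hP (by rw [← hc₁, e]))
    have hFa : FrattiniRel D F P₁ (apl a) := by
      obtain ⟨e, he, Y, g, hY, hYT, hg, hge⟩ := hsplit P₁ hP₁T hP₁ne hP₁n a ha
      have hFe : FrattiniRel D F P₁ (apl e) :=
        ⟨1, Subgroup.one_mem _, _, (iso_apl hP₁T he).1, fun x hx =>
          (apl_one (hP₁T (apl_mem _ hx))).symm⟩
      exact (FrattiniRel.comp' hC hP₁T hFe (hbig P₁ Y g hP₁T hc₁ hY hYT hg)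
        fun x hx => apl_mem e hx).congr fun x hx => hge x hx
    have hF2' : FrattiniRel D F P₁ k₂' := FrattiniRel.inv' hC hk₂i hF2 hk₂'l
    refine (FrattiniRel.comp' hC hP₁T (FrattiniRel.comp' hC hP₁T hF1 hFa fun x hx => hki.mem hx)
      hF2' fun x hx => apl_mem a (hki.mem hx)).congr fun x hx => ?_
    show f x = k₂' (apl a (k x))
    rw [hax _ (hki.mem hx)]
    show f x = k₂' (k₂ (f (k' (k x))))
    rw [hk'l x hx, hk₂'l _ (hP₂.mem hx)]

namespace Duo

variable (h : Duo p F E₁ E₂) [Fact p.Prime] [Finite S]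
include h

theorem act_eq {x y q : Ω} (hy : y ∈ T₂) (hq : q ∈ T₁) :
    x * y * q * (x * y)⁻¹ = x * q * x⁻¹ := by
  calc x * y * q * (x * y)⁻¹ = x * (y * q * y⁻¹) * x⁻¹ := by group
    _ = x * q * x⁻¹ := by rw [← h.comm q hq y hy, mul_inv_cancel_right]

/-- A larger subgroup to which the automorphisms of a fully normalized non-product extend. -/
theorem exists_ext_of_not_le (hP : P ≤ T₁ ⊔ T₂) (hn : F.IsFullyNormalized P)
    (hne : ¬ proj T₁ T₂ P ≤ P) {a : MulAut P} (ha : a ∈ F.autGroup P) :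
    ∃ Y g, P < Y ∧ Y ≤ T₁ ⊔ T₂ ∧ Mor F Y g ∧ ∀ x ∈ P, g x = apl a x := by
  have hPS := hn.1
  haveI := finite_of_le hPS
  haveI : Finite (MulAut P) := Finite.of_injective _ MulEquiv.toEquiv_injective
  obtain ⟨A, hA⟩ : ∃ A, A = P ⊓ T₁ := ⟨_, rfl⟩
  obtain ⟨W, hW⟩ : ∃ W, W = proj T₁ T₂ P := ⟨_, rfl⟩
  have hWT : W ≤ T₁ := hW ▸ proj_le
  have hAP : A ≤ P := hA ▸ inf_le_left
  have hAT : A ≤ T₁ := hA ▸ inf_le_right
  have hAW : A ≤ W := fun x hx => hW ▸
    h.left_mem_proj (hAT hx) T₂.one_mem (by rw [mul_one]; exact hAP hx)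
  have hWS : W ≤ S := hWT.trans h.T₁_le
  haveI := finite_of_le hWS
  have hAPn : ∀ q ∈ P, ∀ x ∈ A, q * x * q⁻¹ ∈ A := fun q hq x hx => by
    rw [hA] at hx ⊢
    exact ⟨P.mul_mem (P.mul_mem hq hx.1) (P.inv_mem hq),
      (Subgroup.mem_normalizer_iff.1 (StronglyClosed.le_normalizer h.sc₁ (hPS hq)) x).1 hx.2⟩
  have hAn : (A.subgroupOf W).Normal := (Subgroup.normal_subgroupOf_iff hAW).2 fun x w hx hw => by
    obtain ⟨y, hy, hwy⟩ := h.exists_of_mem_proj hP (hW ▸ hw)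
    rw [← h.act_eq hy (hAT hx)]
    exact hAPn _ hwy x hx
  have hne' : ¬ W ≤ A := fun hle => hne (hW ▸ hle.trans hAP)
  haveI : Nontrivial (W ⧸ A.subgroupOf W) := by
    obtain ⟨w, hw, hwA⟩ := SetLike.not_le_iff_exists.1 hne'
    exact nontrivial_of_ne (QuotientGroup.mk ⟨w, hw⟩) 1 fun e =>
      hwA (Subgroup.mem_subgroupOf.1 ((QuotientGroup.eq_one_iff _).1 e))
  haveI := ((h.pS.to_le hWS).to_quotient (A.subgroupOf W)).center_nontrivial
  obtain ⟨⟨c, hc⟩, hc1⟩ := exists_ne (1 : Subgroup.center (W ⧸ A.subgroupOf W))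
  obtain ⟨⟨x, hx⟩, rfl⟩ := QuotientGroup.mk_surjective c
  have hxA : x ∉ A := fun hxA => hc1 (Subtype.ext
    ((QuotientGroup.eq_one_iff _).2 (Subgroup.mem_subgroupOf.2 hxA)))
  have hxT := hWT hx
  have hxc : ∀ w ∈ W, x * w * x⁻¹ * w⁻¹ ∈ A := fun w hw => by
    have h1 := Subgroup.mem_center_iff.1 hc (QuotientGroup.mk ⟨w, hw⟩)
    rw [← QuotientGroup.mk_mul, ← QuotientGroup.mk_mul, eq_comm, QuotientGroup.eq,
      Subgroup.mem_subgroupOf] at h1
    push_cast at h1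
    have h2 := (Subgroup.normal_subgroupOf_iff hAW).1 hAn _ _ (A.inv_mem h1) (W.mul_mem hx hw)
    convert h2 using 1
    group
  -- the conjugation by `x`
  have hval : ∀ q ∈ P, x * q * x⁻¹ * q⁻¹ ∈ A := fun q hq => by
    obtain ⟨u, hu, v, hv, rfl⟩ := h.exists_mul (hP hq)
    have e : x * (u * v) * x⁻¹ * (u * v)⁻¹ = x * u * x⁻¹ * u⁻¹ := by
      calc x * (u * v) * x⁻¹ * (u * v)⁻¹ = x * u * x⁻¹ * (x * v * x⁻¹) * v⁻¹ * u⁻¹ := by group
        _ = _ := by rw [h.conj_eq hxT hv]; group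
    rw [e]
    exact hxc u (hW ▸ h.left_mem_proj hu hv hq)
  have hxn : x ∈ Subgroup.normalizer (P : Set Ω) := mem_normalizer_of_conj_mem fun q hq => by
    have := P.mul_mem (hAP (hval q hq)) hq
    rwa [inv_mul_cancel_right] at this
  obtain ⟨w, hw, hxy⟩ := h.exists_of_mem_proj hP (hW ▸ hx)
  let Γ := F.autGroup P
  let K : Subgroup Γ :=
    { carrier := {β | (∀ q ∈ P, q⁻¹ * apl (β : MulAut P) q ∈ A) ∧
        ∃ u ∈ P, ∀ z ∈ A, apl (β : MulAut P) z = u * z * u⁻¹}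
      one_mem' := ⟨fun q hq => by rw [Subgroup.coe_one, apl_one hq, inv_mul_cancel]; exact A.one_mem,
        1, P.one_mem, fun z hz => by rw [Subgroup.coe_one, apl_one (hAP hz)]; group⟩
      mul_mem' := by
        rintro b c ⟨hb, u, hu, hub⟩ ⟨hc, v, hv, hvc⟩
        refine ⟨fun q hq => ?_, u * v, P.mul_mem hu hv, fun z hz => ?_⟩
        · rw [Subgroup.coe_mul, apl_mul _ _ hq]
          have h1 := A.mul_mem (hc q hq) (hb _ (apl_mem (c : MulAut P) hq))
          rwa [mul_assoc, mul_inv_cancel_left] at h1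
        · rw [Subgroup.coe_mul, apl_mul _ _ (hAP hz), hvc z hz, hub _ (hAPn v hv z hz)]
          group
      inv_mem' := by
        rintro b ⟨hb, u, hu, hub⟩
        refine ⟨fun q hq => ?_, u⁻¹, P.inv_mem hu, fun z hz => ?_⟩
        · rw [Subgroup.coe_inv]
          have h1 := A.inv_mem (hb _ (apl_mem (b : MulAut P)⁻¹ hq))
          rwa [apl_apl_inv _ hq, mul_inv_rev, inv_inv] at h1
        · rw [Subgroup.coe_inv]
          have hz' := hAPn _ (P.inv_mem hu) z hz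
          have h1 := hub _ hz'
          have e : u * (u⁻¹ * z * u⁻¹⁻¹) * u⁻¹ = z := by group
          rw [e] at h1
          conv_lhs => rw [← h1]
          rw [apl_inv_apl _ (hAP hz')] }
  have hstA : ∀ g ∈ F.autGroup P, ∀ z ∈ A, apl g z ∈ A := fun g hg z hz => by
    rw [hA] at hz ⊢
    exact ⟨apl_mem g hz.1, StronglyClosed.mor_mem h.sc₁ (iso_apl hPS hg).1 hz.1 hz.2⟩
  haveI hKn : K.Normal := ⟨fun b ⟨hb, u, hu, hub⟩ g => by
    have hgm := (iso_apl hPS g.2).1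
    refine ⟨fun q hq => ?_, apl (g : MulAut P) u, apl_mem _ hu, fun z hz => ?_⟩
    · obtain ⟨q', hq', rfl⟩ : ∃ q' ∈ P, apl (g : MulAut P) q' = q :=
        ⟨_, apl_mem _ hq, apl_apl_inv _ hq⟩
      rw [Subgroup.coe_mul, Subgroup.coe_mul, Subgroup.coe_inv, apl_mul _ _ (apl_mem _ hq'),
        apl_inv_apl _ hq', apl_mul _ _ hq', ← hgm.map_inv hq',
        ← hgm.map_mul (P.inv_mem hq') (apl_mem _ hq')]
      exact hstA _ g.2 _ (hb q' hq')
    · have hz' := hstA _ (Subgroup.inv_mem _ g.2) z hz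
      rw [Subgroup.coe_mul, Subgroup.coe_mul, Subgroup.coe_inv, apl_mul _ _ (hAP hz),
        apl_mul _ _ (hAP hz'), hub _ hz', hgm.map_conj hu (hAP hz'), apl_apl_inv _ (hAP hz)]⟩
  have hKp : IsPGroup p K := by
    rintro ⟨⟨b, hbF⟩, hb, u, hu, hub⟩
    obtain ⟨k, hk⟩ := h.pS.to_le hPS ⟨u, hu⟩
    have hpow : ∀ n : ℕ, ∀ z ∈ A, apl (b ^ n) z = u ^ n * z * (u ^ n)⁻¹ := by
      intro n
      induction n with
      | zero => intro z hz; rw [pow_zero b, apl_one (hAP hz)]; group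
      | succ n ih =>
        intro z hz
        rw [pow_succ' b, apl_mul _ _ (hAP hz), ih z hz, hub _ (hAPn _ (P.pow_mem hu n) z hz),
          pow_succ' u]
        group
    obtain ⟨m, hm⟩ := AM.pow_eq_one_of_fix (F := F) h.pS hAP hPS (Subgroup.pow_mem _ hbF (p ^ k))
      (fun z hz => by
        rw [hpow _ z hz, show u ^ p ^ k = 1 from congrArg Subtype.val hk]; group)
      (AM.mod_pow hb _)
    exact ⟨k + m, Subtype.ext (Subtype.ext (by
      show b ^ p ^ (k + m) = 1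
      rw [pow_add, pow_mul, hm]))⟩
  obtain ⟨γ, hγ, hγx⟩ := exists_mem_autInducedBy (P := P) (K := S) (h.T₁_le hxT) hxn
  have hγΓ : γ ∈ Γ := autInducedBy_le_autGroup hPS hγ
  have hγK : (⟨γ, hγΓ⟩ : Γ) ∈ K := by
    refine ⟨fun q hq => ?_, x * w, hxy, fun z hz => ?_⟩
    · rw [hγx q hq]
      have h1 := hAPn _ (P.inv_mem hq) _ (hval q hq)
      convert h1 using 1
      group
    · rw [hγx z (hAP hz), h.act_eq hw (hAT hz)]
  obtain ⟨-, V, hV⟩ := fullyAutomized_of_fullyNormalized h.pS h.sat hn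
  obtain ⟨c, hc⟩ := exists_conj_mem_sylow hKp V
  have h2 := hc _ (hKn.conj_mem _ (hKn.conj_mem _ hγK ⟨a, ha⟩) c⁻¹)
  rw [hV, Subgroup.mem_subgroupOf, mem_autInducedBy_iff] at h2
  obtain ⟨s, hs, -, hsx⟩ := h2
  obtain ⟨g, hg, hga⟩ := (isReceptive_iff.1 (receptive_of_fullyNormalized h.pS h.sat hn)).2 P _
    (iso_apl hPS ha)
  have hxN : x ∈ nPhi S P (apl a) := mem_nPhi.2 ⟨h.T₁_le hxT, hxn, s, hs, fun q hq => by
    rw [← hsx _ (apl_mem a hq), ← hγx q hq]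
    push_cast
    rw [show (c : MulAut P) * ((c : MulAut P)⁻¹ * (a * γ * a⁻¹) * (c : MulAut P)⁻¹⁻¹) *
      (c : MulAut P)⁻¹ = a * γ * a⁻¹ by group,
      apl_mul _ _ (apl_mem a hq), apl_inv_apl a hq, apl_mul _ _ hq]⟩
  refine ⟨P ⊔ Subgroup.zpowers x, g, lt_of_le_of_ne le_sup_left fun e => hxA ?_, sup_le hP ?_,
    hg.mono (sup_le (iso_apl (F := F) hPS ha).1.le_nPhi (Subgroup.zpowers_le.2 hxN)), hga⟩
  · exact hA.ge ⟨e.ge (Subgroup.mem_sup_right (Subgroup.mem_zpowers x)), hxT⟩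
  · exact Subgroup.zpowers_le.2 (Subgroup.mem_sup_left hxT)

/-- In a product the automorphisms of the central product form a normal subgroup. -/
theorem conj_mem_aut {D : FusionSystem (T₁ ⊔ T₂)} (hD : ∀ P f, Mor D P f ↔ DMor E₁ E₂ P f)
    (hPS : P ≤ S) (hP : P ≤ T₁ ⊔ T₂) (h₁ : proj T₁ T₂ P ≤ P) (h₂ : proj T₂ T₁ P ≤ P)
    {a e : MulAut P} (ha : a ∈ F.autGroup P) (he : e ∈ D.autGroup P) :
    a * e * a⁻¹ ∈ D.autGroup P := by
  obtain ⟨-, φ₁, φ₂, hφ₁, hφ₂, hφ⟩ := (hD _ _).1 (iso_apl hP he).1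
  have ha' := Subgroup.inv_mem _ ha
  have hm := iso_apl hPS ha
  have hm' := iso_apl hPS ha'
  haveI := finite_of_le hPS
  haveI := finite_of_le h.T₁_le
  haveI := finite_of_le h.T₂_le
  have hstab₁ : ∀ {b : MulAut P}, b ∈ F.autGroup P → ∀ z ∈ proj T₁ T₂ P, apl b z ∈ proj T₁ T₂ P :=
    fun {b} hb z hz => ⟨Subgroup.mem_sup_left (apl_mem b (h₁ hz)),
      StronglyClosed.mor_mem h.sc₁ (iso_apl hPS hb).1 (h₁ hz) hz.2⟩
  have hstab₂ : ∀ {b : MulAut P}, b ∈ F.autGroup P → ∀ z ∈ proj T₂ T₁ P, apl b z ∈ proj T₂ T₁ P :=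
    fun {b} hb z hz => ⟨Subgroup.mem_sup_left (apl_mem b (h₂ hz)),
      StronglyClosed.mor_mem h.sc₂ (iso_apl hPS hb).1 (h₂ hz) hz.2⟩
  haveI := finite_of_le (h₁.trans hPS)
  haveI := finite_of_le (h₂.trans hPS)
  have hval₁ : ∀ x ∈ proj T₁ T₂ P, φ₁ x = apl e x := fun x hx => by
    have h1 := hφ x hx.2 1 T₂.one_mem (by rw [mul_one]; exact h₁ hx)
    rw [mul_one, hφ₂.map_one, mul_one] at h1
    exact h1.symm
  have hval₂ : ∀ x ∈ proj T₂ T₁ P, φ₂ x = apl e x := fun x hx => by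
    have h1 := hφ 1 T₁.one_mem x hx.2 (by rw [one_mul]; exact h₂ hx)
    rw [one_mul, hφ₁.map_one, one_mul] at h1
    exact h1.symm
  have side : ∀ {U : Subgroup Ω} {E : FusionSystem U} {A : Subgroup Ω}, E.IsInvariantIn F →
      A ≤ U → A ≤ P → Finite A → (∀ {b : MulAut P}, b ∈ F.autGroup P → ∀ z ∈ A, apl b z ∈ A) →
      e ∈ F.autGroup P → Mor E A (apl e) → Mor E A (apl (a * e * a⁻¹)) := by
    intro U E A hE hAU hAP hAf hst heF hmE
    haveI := hAf
    haveI := finite_of_le hE.2.1.1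
    have hi : Iso F A A (apl a) := AM.iso_of_stable (hm.1.mono hAP) (hst ha)
    obtain ⟨α, hα, hαx⟩ := (AM.iso_of_stable hmE (hst heF)).exists_mem_autGroup
    refine (iso_apl hAU (conjAut_mem_of_isInvariant hE hAU hi hα)).1.congr fun y hy => ?_
    have hy' := hst ha' y hy
    have h3 := hi.conjAut_apl α hy'
    rw [apl_apl_inv a (hAP hy), hαx _ hy'] at h3
    rw [h3, apl_mul _ _ (hAP hy), apl_mul _ _ (apl_mem _ (hAP hy))]
  have heF : e ∈ F.autGroup P :=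
    (mem_autGroup_iff hPS).2 ⟨h.dmor_F ((hD _ _).1 (iso_apl hP he).1), (iso_apl hP he).2⟩
  have hk₁ := side h.n₁.1.2.2 proj_le h₁ inferInstance hstab₁ heF
    (hφ₁.congr fun x hx => (hval₁ x hx).symm)
  have hk₂ := side h.n₂.1.2.2 proj_le h₂ inferInstance hstab₂ heF
    (hφ₂.congr fun x hx => (hval₂ x hx).symm)
  have hg := Subgroup.mul_mem _ (Subgroup.mul_mem _ ha heF) ha'
  refine (mem_autGroup_iff hP).2 ⟨(hD _ _).2 ⟨hP, _, _, hk₁, hk₂, fun x hx y hy hxy => ?_⟩,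
    (iso_apl hPS hg).2⟩
  exact (iso_apl hPS hg).1.map_mul (h₁ (h.left_mem_proj hx hy hxy))
    (h₂ (h.right_mem_proj hx hy hxy))

/-- The central product is invariant. -/
theorem dsys_invariant {D : FusionSystem (T₁ ⊔ T₂)} (hDs : D.IsSaturated p)
    (hD : ∀ P f, Mor D P f ↔ DMor E₁ E₂ P f) : D.IsInvariantIn F := by
  have hT : F.StronglyClosed (T₁ ⊔ T₂) := stronglyClosed_sup h.pS h.sat h.sc₁ h.sc₂
  have hsub : D.IsSubsystemOf F :=
    isSubsystemOf_iff_mor.2 fun P f hf => h.dmor_F ((hD P f).1 hf)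
  have hC : TransInv D F := fun hf β hβ => by
    obtain ⟨k, hk, hkx⟩ := h.dmor_transInv ((hD _ _).1 hf) hβ
    exact ⟨k, (hD _ _).2 hk, hkx⟩
  refine invariant_of_mor hsub hT (fun _ _ hf _ hβ => hC hf hβ) fun P f hP hf =>
    frattini_of_split h.pS h.sat hT hC (fun P hPT hne hn a ha => ?_) P hP f hf
  have hone : ∀ x ∈ P, x = apl (1 : MulAut P) x := fun x hx => (apl_one hx).symm
  by_cases h₁ : proj T₁ T₂ P ≤ P
  swap
  · obtain ⟨Y, g, hY, hYT, hg, hga⟩ := h.exists_ext_of_not_le hPT hn h₁ ha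
    exact ⟨1, Subgroup.one_mem _, Y, g, hY, hYT, hg, fun x hx => by rw [← hone x hx, hga x hx]⟩
  by_cases h₂ : proj T₂ T₁ P ≤ P
  swap
  · obtain ⟨Y, g, hY, hYT, hg, hga⟩ :=
      h.swap.exists_ext_of_not_le (by rwa [sup_comm]) hn h₂ ha
    exact ⟨1, Subgroup.one_mem _, Y, g, hY, by rwa [sup_comm], hg,
      fun x hx => by rw [← hone x hx, hga x hx]⟩
  have hPS := hn.1
  haveI := finite_of_le hPS
  haveI := finite_of_le hT.1
  haveI : Finite (MulAut P) := Finite.of_injective _ MulEquiv.toEquiv_injective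
  have hTp := h.pS.to_le hT.1
  have hle : D.autGroup P ≤ F.autGroup P := fun e he =>
    (mem_autGroup_iff hPS).2 ⟨isSubsystemOf_iff_mor.1 hsub _ _ (iso_apl hPT he).1, (iso_apl hPT he).2⟩
  let N : Subgroup (F.autGroup P) := (D.autGroup P).subgroupOf (F.autGroup P)
  haveI hN : N.Normal := ⟨fun e he b => h.conj_mem_aut hD hPS hPT h₁ h₂ b.2 he⟩
  obtain ⟨U₀, hU₀⟩ : ∃ U₀, U₀ = autInducedBy (T₁ ⊔ T₂) P := ⟨_, rfl⟩
  have hU₀le : U₀ ≤ D.autGroup P := hU₀ ▸ autInducedBy_le_autGroup hPT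
  obtain ⟨-, V, hV⟩ := fullyAutomized_of_fullyNormalized hTp hDs
    (fullyNormalized_sub h.pS h.sat hT hsub hPT hn)
  have hd : ¬ p ∣ U₀.relIndex (D.autGroup P) := by
    show ¬ p ∣ (U₀.subgroupOf (D.autGroup P)).index
    rw [hU₀, ← hV]
    exact V.not_dvd_index
  obtain ⟨U, hU⟩ : ∃ U : Sylow p N, (U : Subgroup N) =
      (U₀.subgroupOf (F.autGroup P)).subgroupOf N := by
    refine ⟨((((hU₀ ▸ isPGroup_autInducedBy hTp : IsPGroup p U₀)).comap_subtype).comap_subtype :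
      IsPGroup p _).toSylow fun hd' => hd ?_, rfl⟩
    have e : (U₀.subgroupOf (F.autGroup P)).relIndex N = U₀.relIndex (D.autGroup P) :=
      Subgroup.relIndex_subgroupOf hle
    exact e ▸ hd'
  have hfr := Sylow.normalizer_sup_eq_top U
  rw [hU, Subgroup.subgroupOf_map_subtype, inf_eq_left.2 (show
    U₀.subgroupOf (F.autGroup P) ≤ N from fun _ hb => hU₀le hb)] at hfr
  have ham : (⟨a, ha⟩ : F.autGroup P) ∈ (⊤ : Subgroup (F.autGroup P)) := Subgroup.mem_top _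
  rw [← hfr, Subgroup.mem_sup_of_normal_right] at ham
  obtain ⟨n, hn', e, he, hne'⟩ := ham
  have hni := iso_apl (F := F) hPS n.2
  obtain ⟨g, hg, hgn⟩ := (isReceptive_iff.1 (receptive_of_fullyNormalized h.pS h.sat hn)).2 P _ hni
  have hNle : normalizerIn (T₁ ⊔ T₂) P ≤ nPhi S P (apl (n : MulAut P)) := by
    rintro t ⟨htT, htn⟩
    obtain ⟨c, hc, hcx⟩ := exists_mem_autInducedBy (K := T₁ ⊔ T₂) (P := P) htT htn
    have hcU : (⟨c, hle (hU₀le (hU₀.ge hc))⟩ : F.autGroup P) ∈ U₀.subgroupOf (F.autGroup P) :=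
      hU₀.ge hc
    have h1 := (Subgroup.mem_normalizer_iff.1 hn' _).1 hcU
    obtain ⟨s, hs, -, hsx⟩ := mem_autInducedBy_iff.1 (hU₀.le (Subgroup.mem_subgroupOf.1 h1))
    refine mem_nPhi.2 ⟨hT.1 htT, htn, s, hT.1 hs, fun x hx => ?_⟩
    rw [← hsx _ (apl_mem _ hx), ← hcx x hx]
    push_cast
    rw [apl_mul _ _ (apl_mem _ hx), apl_inv_apl _ hx, apl_mul _ _ hx]
  refine ⟨(e : MulAut P), he, _, g, ?_, normalizerIn_le _ _, hg.mono hNle, fun x hx => ?_⟩
  · exact lt_inf_normalizer hTp le_rfl (lt_of_le_of_ne hPT hne)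
  · rw [hgn _ (apl_mem _ hx), ← apl_mul _ _ hx]
    exact congrArg (fun b : F.autGroup P => apl (b : MulAut P) x) hne'.symm

end Duo

end Cfsg.Agent.FusSys.Commuting
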