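import Cfsg.Agent.FusSys.AMap.Meet.Largest
import Cfsg.Agent.FusSys.Component.Simple

/-!
Two normal subsystems over commuting subgroups meeting centrally: the maps of the first extend in the
system so as to fix the second subgroup.
-/

set_option autoImplicit false
set_option linter.unusedSectionVars false
set_option linter.style.haveILetI false
set_option linter.unusedVariables false
set_option maxHeartbeats 400000

namespace Cfsg.Agent.FusSys.Commuting

open Cfsg Cfsg.FusionSystem Cfsg.Agent.FusSys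

universe u

variable {Ω : Type u} [Group Ω] {S T T₁ T₂ : Subgroup Ω} {F : FusionSystem S}
variable {E₁ : FusionSystem T₁} {E₂ : FusionSystem T₂}
variable {P Q R : Subgroup Ω} {f g : Ω → Ω} {p : ℕ}

/-- Commuting normal subsystems meeting in both centres. -/
structure Duo (p : ℕ) (F : FusionSystem S) (E₁ : FusionSystem T₁) (E₂ : FusionSystem T₂) : Prop where
  pS : IsPGroup p S
  sat : F.IsSaturated p
  n₁ : E₁.IsNormalIn F p
  n₂ : E₂.IsNormalIn F p
  comm : ∀ x ∈ T₁, ∀ y ∈ T₂, x * y = y * x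
  c₁ : T₁ ⊓ T₂ ≤ E₁.center
  c₂ : T₁ ⊓ T₂ ≤ E₂.center

namespace Duo

variable (h : Duo p F E₁ E₂)
include h

theorem swap : Duo p F E₂ E₁ :=
  ⟨h.pS, h.sat, h.n₂, h.n₁, fun x hx y hy => (h.comm y hy x hx).symm,
    by rw [inf_comm]; exact h.c₂, by rw [inf_comm]; exact h.c₁⟩

theorem sc₁ : F.StronglyClosed T₁ := h.n₁.1.2.2.2.1

theorem sc₂ : F.StronglyClosed T₂ := h.n₂.1.2.2.2.1

theorem T₁_le : T₁ ≤ S := h.sc₁.1

theorem T₂_le : T₂ ≤ S := h.sc₂.1

theorem conj_eq {x y : Ω} (hx : x ∈ T₁) (hy : y ∈ T₂) : x * y * x⁻¹ = y := by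
  rw [h.comm x hx y hy, mul_inv_cancel_right]

theorem T₂_centralizer (hR : R ≤ T₁) : T₂ ≤ centralizerIn S R := fun y hy =>
  ⟨h.T₂_le hy, Subgroup.mem_centralizer_iff.2 fun x hx => h.comm x (hR hx) y hy⟩

end Duo

/-- Extends in the system to a map fixing the second subgroup. -/
def ExtFix (F : FusionSystem S) (U P : Subgroup Ω) (f : Ω → Ω) : Prop :=
  ∃ g, Mor F (P ⊔ U) g ∧ (∀ x ∈ P, g x = f x) ∧ ∀ y ∈ U, g y = y

namespace Duo

variable (h : Duo p F E₁ E₂) [Fact p.Prime] [Finite S]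
include h

theorem fix_center (hf : Mor E₁ P f) {x : Ω} (hx : x ∈ P) (hz : x ∈ T₁ ⊓ T₂) : f x = x := by
  haveI := finite_of_le h.T₁_le
  obtain ⟨g, hg, hgf, hgZ⟩ := (isCentral_iff.1 (isCentral_center (F := E₁))).2 P f hf
  rw [← hgf x hx]
  exact hgZ x (h.c₁ hz)

theorem subRel_ext : SubRel E₁ T₁ (fun P f => Mor E₁ P f ∧ ExtFix F T₂ P f) where
  congr := by
    rintro P f g ⟨h1, k, hk, hkf, hkU⟩ he
    exact ⟨h1.congr he, k, hk, fun x hx => (hkf x hx).trans (he x hx).symm, hkU⟩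
  le h1 := ⟨h1.1.le, fun _ hx => h1.1.mem_S hx⟩
  conj := by
    intro P s hP hs
    exact ⟨mor_conj hP hs, mor_conj hP hs, _, mor_conj (sup_le (hP.trans h.T₁_le) h.T₂_le)
      (h.T₁_le hs), fun _ _ => rfl, fun y hy => h.conj_eq hs hy⟩
  comp := by
    rintro P Q f g hf ⟨-, a, ha, haf, haU⟩ hg ⟨-, b, hb, hbg, hbU⟩ hfQ
    refine ⟨hf.comp hg hfQ, b ∘ a, ha.comp hb fun x hx => AM.maps_sup ha le_sup_left le_sup_right
      (fun y hy => by rw [haf y hy]; exact Subgroup.mem_sup_left (hfQ y hy))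
      (fun y hy => by rw [haU y hy]; exact Subgroup.mem_sup_right hy) hx, fun x hx => ?_, fun y hy => ?_⟩
    · show b (a x) = g (f x)
      rw [haf x hx, hbg _ (hfQ x hx)]
    · show b (a y) = y
      rw [haU y hy, hbU y hy]
  inv := by
    rintro P Q f g hf ⟨-, a, ha, haf, haU⟩ hg hgf
    obtain ⟨M, hM⟩ := ha.exists_iso
    obtain ⟨b, hb, hba, -⟩ := hM.symm
    have hle : Q ⊔ T₂ ≤ M := sup_le (fun y hy => by
      obtain ⟨x, hx, rfl⟩ := hf.exists_eq hy
      rw [← haf x hx]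
      exact hM.mem (Subgroup.mem_sup_left hx)) fun y hy => by
      rw [← haU y hy]
      exact hM.mem (Subgroup.mem_sup_right hy)
    refine ⟨hg.1, b, hb.1.mono hle, fun y hy => ?_, fun y hy => ?_⟩
    · obtain ⟨x, hx, rfl⟩ := hf.exists_eq hy
      rw [hgf x hx, ← haf x hx, hba x (Subgroup.mem_sup_left hx)]
    · conv_lhs => rw [← haU y hy]
      exact hba y (Subgroup.mem_sup_right hy)

/-- The automorphisms with such extensions. -/
noncomputable def extAut (hR : R ≤ T₁) : Subgroup (MulAut R) :=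
  haveI : Finite R := finite_of_le (hR.trans h.T₁_le)
  chainStab.subgroupOfFiniteSubmonoid
    { carrier := {α | ExtFix F T₂ R (apl α)}
      one_mem' := ⟨id, mor_id (sup_le (hR.trans h.T₁_le) h.T₂_le), fun x hx => (apl_one hx).symm,
        fun _ _ => rfl⟩
      mul_mem' := by
        rintro α β ⟨a, ha, hax, haU⟩ ⟨b, hb, hbx, hbU⟩
        refine ⟨a ∘ b, hb.comp ha fun x hx => AM.maps_sup hb le_sup_left le_sup_right
          (fun y hy => by rw [hbx y hy]; exact Subgroup.mem_sup_left (apl_mem β hy))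
          (fun y hy => by rw [hbU y hy]; exact Subgroup.mem_sup_right hy) hx,
          fun x hx => ?_, fun y hy => ?_⟩
        · show a (b x) = _
          rw [hbx x hx, hax _ (apl_mem β hx), apl_mul _ _ hx]
        · show a (b y) = y
          rw [hbU y hy, haU y hy] }

theorem mem_extAut (hR : R ≤ T₁) {α : MulAut R} :
    α ∈ h.extAut hR ↔ ExtFix F T₂ R (apl α) := Iff.rfl

/-- At a fully normalized subgroup centric in `T₁`. -/
theorem extFix_normalized (hR : AM.TC F T₁ R) (hn : F.IsFullyNormalized R) :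
    E₁.autGroup R ≤ h.extAut hR.1 := by
  refine AM.autGroup_le_of_coprime h.pS h.n₁.1 hR.1 hn (fun α hα => ?_) fun γ hγ hco => ?_
  · obtain ⟨t, ht, -, htx⟩ := mem_autInducedBy_iff.1 hα
    exact (h.mem_extAut hR.1).2 ⟨_, mor_conj (sup_le (hR.1.trans h.T₁_le) h.T₂_le) (h.T₁_le ht),
      fun x hx => (htx x hx).symm, fun y hy => h.conj_eq ht hy⟩
  obtain ⟨η, hη, hηco, hηx⟩ := AM.res0_of_normal h.pS h.n₁ hR hn hγ hco
  have hpair := AM.pair_self h.pS h.n₁.1
  have hP := (hpair.mem_XX hR).1 hη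
  have hle : R ⊔ T₂ ≤ AM.cc S R := sup_le_sup le_rfl (h.T₂_centralizer hR.1)
  have hηm := iso_apl (hpair.cc_le_S hR) hP.1
  have hZR : ∀ z ∈ T₁ ⊓ T₂, z ∈ R := fun z hz =>
    hR.mem h.sc₁ hz.1 fun x hx => by rw [← h.comm x (hR.1 hx) z hz.2, mul_inv_cancel_right]
  haveI := finite_of_le (hpair.cc_le_S hR)
  haveI : Finite (MulAut (AM.cc S R)) := Finite.of_injective _ MulEquiv.toEquiv_injective
  refine (h.mem_extAut hR.1).2 ⟨apl η, hηm.1.mono hle, hηx, fun y hy => ?_⟩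
  have hyQ := hle (Subgroup.mem_sup_right hy)
  obtain ⟨d, hd⟩ : ∃ d, d = y⁻¹ * apl η y := ⟨_, rfl⟩
  have hdR : d ∈ R := hd ▸ hP.2.1 y hyQ
  have hdZ : d ∈ T₁ ⊓ T₂ := ⟨hR.1 hdR, hd ▸ T₂.mul_mem (T₂.inv_mem hy)
    (StronglyClosed.mor_mem h.sc₂ hηm.1 hyQ hy)⟩
  have hfix : apl η d = d := by
    rw [hηx d hdR]
    exact h.fix_center (iso_apl hR.1 hγ).1 hdR hdZ
  have hit : ∀ n : ℕ, apl (η ^ n) y = y * d ^ n := by
    intro n
    induction n with
    | zero => rw [pow_zero η, pow_zero, mul_one, apl_one hyQ]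
    | succ n ih =>
      have hdn : d ^ n ∈ AM.cc S R := AM.le_cc (R.pow_mem hdR n)
      rw [pow_succ' η, apl_mul _ _ hyQ, ih, hηm.1.map_mul hyQ hdn,
        hηm.1.map_pow (AM.le_cc hdR) n, hfix, show apl η y = y * d from by
          rw [hd, mul_inv_cancel_left], mul_assoc, ← pow_succ']
  have h1 := hit (orderOf η)
  rw [pow_orderOf_eq_one, apl_one hyQ, left_eq_mul] at h1
  obtain ⟨k, hk⟩ := (h.pS.to_le (hR.1.trans h.T₁_le)) ⟨d, hdR⟩
  have h2 : d = 1 := AM.eq_one_of_coprime (p := p) (k := k) (congrArg Subtype.val hk)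
    (Nat.Coprime.coprime_dvd_left (orderOf_dvd_of_pow_eq_one h1) hηco)
  rw [hd] at h2
  exact (inv_mul_eq_one.1 h2).symm

/-- Every map of the first subsystem extends fixing the second subgroup. -/
theorem extFix (hf : Mor E₁ P f) : ExtFix F T₂ P f := by
  haveI := finite_of_le h.T₁_le
  have hle : E₁ ≤ subSys h.subRel_ext := by
    refine le_of_aut_le (h.pS.to_le h.T₁_le) h.n₁.1.1 fun R hR α hα => ?_
    have hTC : AM.TC F T₁ R := hR.elim (fun e => e.symm ▸ AM.TC.top h.sc₁) fun he =>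
      ⟨he.1.1, fun Q hQ => by
        obtain ⟨f, hf⟩ := isConj_iff.1 hQ
        exact centric_self (centric_of_mor h.n₁.1.2.2 he.1 hf)⟩
    have hRS := hTC.1.trans h.T₁_le
    obtain ⟨R', k, hR', hk, hki, -⟩ := exists_fullyNormalized_mor h.pS h.sat hRS
    obtain ⟨a, ha, hax, haU⟩ := (h.mem_extAut (hTC.of_iso h.sc₁ hki).1).1
      (h.extFix_normalized (hTC.of_iso h.sc₁ hki) hR'
        (conjAut_mem_of_isInvariant h.n₁.1.2.2 hTC.1 hki hα))
    have hN : R ⊔ T₂ ≤ normalizerIn S R := sup_le (le_normalizerIn hRS)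
      ((h.T₂_centralizer hTC.1).trans (centralizerIn_le_normalizerIn S R))
    obtain ⟨M, hM⟩ := (hk.mono hN).exists_iso
    obtain ⟨k', hk', hk'k, -⟩ := hM.symm
    have hkU := StronglyClosed.iso_self h.sc₂ (hk.mono hN) le_sup_right
    have hMle : M ≤ R' ⊔ T₂ := fun y hy => by
      obtain ⟨x, hx, rfl⟩ := hM.exists_eq hy
      exact AM.maps_sup (hk.mono hN) le_sup_left le_sup_right
        (fun z hz => Subgroup.mem_sup_left (hki.mem hz))
        (fun z hz => Subgroup.mem_sup_right (hkU.mem hz)) hx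
    have haM : ∀ y ∈ M, a y ∈ M := fun y hy => by
      obtain ⟨x, hx, rfl⟩ := hM.exists_eq hy
      refine AM.maps_sup ha le_sup_left le_sup_right (fun z hz => ?_) (fun z hz => ?_) (hMle (hM.mem hx))
      · obtain ⟨w, hw, rfl⟩ := hki.exists_eq hz
        rw [hax _ (hki.mem hw), hki.conjAut_apl α hw]
        exact hM.mem (Subgroup.mem_sup_left (apl_mem α hw))
      · obtain ⟨w, hw, rfl⟩ := hkU.exists_eq hz
        rw [haU _ (hkU.mem hw)]
        exact hM.mem (Subgroup.mem_sup_right hw)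
    have hai := iso_apl hTC.1 hα
    refine (mem_autGroup_iff hTC.1).2 ⟨(mor_subSys h.subRel_ext).2 ⟨hai.1, hai.1, k' ∘ a ∘ k,
      ((hk.mono hN).comp (ha.mono hMle) fun x hx => hM.mem hx).comp hk'.1
        fun x hx => haM _ (hM.mem hx), fun x hx => ?_, fun y hy => ?_⟩, hai.2⟩
    · show k' (a (k x)) = apl α x
      rw [hax _ (hki.mem hx), hki.conjAut_apl α hx, hk'k _ (Subgroup.mem_sup_left (apl_mem α hx))]
    · show k' (a (k y)) = y
      rw [haU _ (hkU.mem hy), hk'k y (Subgroup.mem_sup_right hy)]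
  exact ((mor_subSys h.subRel_ext).1 (le_iff_mor.1 hle P f hf)).2.2

end Duo

end Cfsg.Agent.FusSys.Commuting
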