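import Cfsg.Agent.FusSys.Commuting.Frattini
import Cfsg.Agent.FusSys.ResidualNormal

/-!
The central product is normal; the general case through the residuals.
-/

set_option autoImplicit false
set_option linter.unusedSectionVars false
set_option linter.style.haveILetI false
set_option linter.unusedVariables false
set_option maxHeartbeats 400000

namespace Cfsg.Agent.FusSys.Commuting

open Cfsg Cfsg.FusionSystem Cfsg.Agent.FusSys

universe u

variable {Ω : Type u} [Group Ω] {S T T₁ T₂ : Subgroup Ω} {F : FusionSystem S}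
variable {E₁ : FusionSystem T₁} {E₂ : FusionSystem T₂}
variable {P Q R : Subgroup Ω} {f g : Ω → Ω} {p : ℕ}

/-- The automorphisms of `T₁ T₂ C_S(T₁ T₂)` trivial modulo the product. -/
def Near (F : FusionSystem S) (T : Subgroup Ω) (β : MulAut (AM.cc S T)) : Prop :=
  β ∈ F.autGroup (AM.cc S T) ∧ ∀ x ∈ AM.cc S T, x⁻¹ * apl β x ∈ T

theorem Near.mul {a b : MulAut (AM.cc S T)} (ha : Near F T a) (hb : Near F T b) :
    Near F T (a * b) := by
  refine ⟨Subgroup.mul_mem _ ha.1 hb.1, fun x hx => ?_⟩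
  rw [apl_mul _ _ hx]
  have h1 := T.mul_mem (hb.2 x hx) (ha.2 _ (apl_mem b hx))
  rwa [mul_assoc, mul_inv_cancel_left] at h1

namespace Duo

variable (h : Duo p F E₁ E₂) [Fact p.Prime] [Finite S]
include h

theorem near_conj {t : Ω} (ht : t ∈ T₁ ⊔ T₂) :
    ∃ β, Near F (T₁ ⊔ T₂) β ∧ ∀ x ∈ AM.cc S (T₁ ⊔ T₂), apl β x = t * x * t⁻¹ := by
  have hTS : T₁ ⊔ T₂ ≤ S := sup_le h.T₁_le h.T₂_le
  have hsc : F.StronglyClosed (T₁ ⊔ T₂) := stronglyClosed_sup h.pS h.sat h.sc₁ h.sc₂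
  obtain ⟨β, hβ, hβx⟩ := exists_mem_autInducedBy (P := AM.cc S (T₁ ⊔ T₂)) (K := S) (hTS ht)
    (AM.mem_normalizer_cc le_rfl hTS (Subgroup.le_normalizer ht) (AM.normalizer_self (hTS ht)))
  refine ⟨β, ⟨autInducedBy_le_autGroup (AM.cc_le hTS) hβ, fun x hx => ?_⟩, hβx⟩
  rw [hβx x hx]
  have h1 := (T₁ ⊔ T₂).mul_mem ((Subgroup.mem_normalizer_iff.1 (StronglyClosed.le_normalizer hsc
    (S.inv_mem (AM.cc_le hTS hx))) t).1 ht) ((T₁ ⊔ T₂).inv_mem ht)
  convert h1 using 1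
  group

/-- An automorphism of the first factor extends trivially modulo the product, fixing the second. -/
theorem exists_near {α : MulAut T₁} (hα : α ∈ E₁.autGroup T₁) :
    ∃ β, Near F (T₁ ⊔ T₂) β ∧ (∀ x ∈ T₁, apl β x = apl α x) ∧ ∀ y ∈ T₂, apl β y = y := by
  have hTS : T₁ ⊔ T₂ ≤ S := sup_le h.T₁_le h.T₂_le
  have hQS : AM.cc S (T₁ ⊔ T₂) ≤ S := AM.cc_le hTS
  have hle₁ : T₁ ≤ AM.cc S (T₁ ⊔ T₂) := le_sup_left.trans AM.le_cc
  have hle₂ : T₂ ≤ AM.cc S (T₁ ⊔ T₂) := le_sup_right.trans AM.le_cc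
  haveI := finite_of_le h.T₁_le
  haveI := finite_of_le hQS
  haveI : Finite (MulAut (AM.cc S (T₁ ⊔ T₂))) := Finite.of_injective _ MulEquiv.toEquiv_injective
  haveI : Finite (MulAut T₁) := Finite.of_injective _ MulEquiv.toEquiv_injective
  let A : Subgroup (MulAut T₁) := chainStab.subgroupOfFiniteSubmonoid
    { carrier := {α | ∃ β, Near F (T₁ ⊔ T₂) β ∧ (∀ x ∈ T₁, apl β x = apl α x) ∧ ∀ y ∈ T₂, apl β y = y}
      one_mem' := ⟨1, ⟨Subgroup.one_mem _, fun x hx => by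
          rw [apl_one hx, inv_mul_cancel]; exact Subgroup.one_mem _⟩,
        fun x hx => by rw [apl_one (hle₁ hx), apl_one hx], fun y hy => apl_one (hle₂ hy)⟩
      mul_mem' := by
        rintro a b ⟨β, hβ, hβx, hβy⟩ ⟨γ, hγ, hγx, hγy⟩
        exact ⟨β * γ, hβ.mul hγ, fun x hx => by
            rw [apl_mul _ _ (hle₁ hx), hγx x hx, hβx _ (apl_mem b hx), apl_mul _ _ hx],
          fun y hy => by rw [apl_mul _ _ (hle₂ hy), hγy y hy, hβy y hy]⟩ }
  have hTC := AM.TC.top (F := F) h.sc₁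
  have hpair := AM.pair_self h.pS h.n₁.1
  have key : E₁.autGroup T₁ ≤ A := by
    refine AM.autGroup_le_of_coprime h.pS h.n₁.1 le_rfl hpair.top_fullyNormalized ?_ ?_
    · intro τ hτ
      obtain ⟨t, ht, -, htx⟩ := mem_autInducedBy_iff.1 hτ
      obtain ⟨β, hβ, hβx⟩ := h.near_conj (Subgroup.mem_sup_left ht)
      exact ⟨β, hβ, fun x hx => by rw [hβx x (hle₁ hx), htx x hx],
        fun y hy => by rw [hβx y (hle₂ hy), h.conj_eq ht hy]⟩
    · intro γ hγ hγco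
      obtain ⟨η, hη, hηco, hηx⟩ :=
        AM.res0_of_normal h.pS h.n₁ hTC hpair.top_fullyNormalized hγ hγco
      have hP := (hpair.mem_XX hTC).1 hη
      have hle : AM.cc S (T₁ ⊔ T₂) ≤ AM.cc S T₁ :=
        sup_le (sup_le AM.le_cc ((h.T₂_centralizer le_rfl).trans AM.centralizer_le_cc))
          ((inf_le_inf_left S (Subgroup.centralizer_le (le_sup_left : T₁ ≤ T₁ ⊔ T₂))).trans
            AM.centralizer_le_cc)
      have hηm := iso_apl (hpair.cc_le_S hTC) hP.1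
      haveI := finite_of_le (hpair.cc_le_S hTC)
      have hs : η ∈ AM.stab (AM.cc S T₁) (AM.cc S (T₁ ⊔ T₂)) := AM.mem_stab.2 fun x _ hx => by
        have h1 := (AM.cc S (T₁ ⊔ T₂)).mul_mem hx
          (AM.le_cc (Subgroup.mem_sup_left (hP.2.1 x (hle hx))))
        rwa [mul_inv_cancel_left] at h1
      haveI := finite_of_le (hpair.cc_le_S hTC)
      have e : ∀ x ∈ AM.cc S (T₁ ⊔ T₂), apl (AM.resHom hle ⟨η, hs⟩) x = apl η x := fun x hx =>
        AM.resHom_apl hle _ hx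
      refine ⟨AM.resHom hle ⟨η, hs⟩, ⟨AM.resHom_mem hle (hpair.cc_le_S hTC) hP.1,
        fun x hx => by rw [e x hx]; exact Subgroup.mem_sup_left (hP.2.1 x (hle hx))⟩,
        fun x hx => by rw [e x (hle₁ hx), hηx x hx], fun y hy => ?_⟩
      rw [e y (hle₂ hy)]
      -- `η` fixes `T₂`
      have hyQ := hle (hle₂ hy)
      obtain ⟨d, hd⟩ : ∃ d, d = y⁻¹ * apl η y := ⟨_, rfl⟩
      have hdR : d ∈ T₁ := hd ▸ hP.2.1 y hyQ
      have hdZ : d ∈ T₁ ⊓ T₂ := ⟨hdR, hd ▸ T₂.mul_mem (T₂.inv_mem hy)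
        (StronglyClosed.mor_mem h.sc₂ hηm.1 hyQ hy)⟩
      have hfix : apl η d = d := by
        rw [hηx d hdR]
        exact h.fix_center (iso_apl le_rfl hγ).1 hdR hdZ
      have hit : ∀ n : ℕ, apl (η ^ n) y = y * d ^ n := by
        intro n
        induction n with
        | zero => rw [pow_zero η, pow_zero, mul_one, apl_one hyQ]
        | succ n ih =>
          rw [pow_succ' η, apl_mul _ _ hyQ, ih, hηm.1.map_mul hyQ (AM.le_cc (T₁.pow_mem hdR n)),
            hηm.1.map_pow (AM.le_cc hdR) n, hfix, show apl η y = y * d from by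
              rw [hd, mul_inv_cancel_left], mul_assoc, ← pow_succ']
      have h1 := hit (orderOf η)
      rw [pow_orderOf_eq_one, apl_one hyQ, left_eq_mul] at h1
      obtain ⟨k, hk⟩ := (h.pS.to_le h.T₁_le) ⟨d, hdR⟩
      have h2 : d = 1 := AM.eq_one_of_coprime (p := p) (k := k) (congrArg Subtype.val hk)
        (Nat.Coprime.coprime_dvd_left (orderOf_dvd_of_pow_eq_one h1) hηco)
      rw [hd] at h2
      exact (inv_mul_eq_one.1 h2).symm
  exact key hα

/-- The central product is normal. -/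
theorem exists_normal : ∃ D : FusionSystem (T₁ ⊔ T₂), D.IsNormalIn F p ∧
    IsCentralProductOf E₁ E₂ D := by
  obtain ⟨D, hDs, hDc, hD⟩ := h.exists_sys
  refine ⟨D, ⟨⟨hDs, h.sat, h.dsys_invariant hDs hD⟩, fun α hα => ?_⟩, hDc⟩
  haveI := finite_of_le h.T₁_le
  haveI := finite_of_le h.T₂_le
  have hαi := iso_apl le_rfl hα
  obtain ⟨-, φ₁, φ₂, h₁, h₂, hφ⟩ := (hD _ _).1 hαi.1
  have hp₁ : T₁ ≤ proj T₁ T₂ (T₁ ⊔ T₂) := le_inf (le_sup_left.trans le_sup_left) le_rfl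
  have hp₂ : T₂ ≤ proj T₂ T₁ (T₁ ⊔ T₂) := le_inf (le_sup_right.trans le_sup_left) le_rfl
  obtain ⟨a₁, ha₁, ha₁x⟩ := (AM.iso_of_stable (h₁.mono hp₁) fun x hx =>
    h₁.mem_S (hp₁ hx)).exists_mem_autGroup
  obtain ⟨a₂, ha₂, ha₂x⟩ := (AM.iso_of_stable (h₂.mono hp₂) fun x hx =>
    h₂.mem_S (hp₂ hx)).exists_mem_autGroup
  obtain ⟨β₁, hβ₁, hβ₁x, hβ₁y⟩ := h.exists_near ha₁
  obtain ⟨β₂', hβ₂, hβ₂y, hβ₂x⟩ := h.swap.exists_near ha₂
  obtain ⟨β₂, hβ₂N, hβ₂x', hβ₂y'⟩ : ∃ β₂, Near F (T₁ ⊔ T₂) β₂ ∧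
      (∀ x ∈ T₁, apl β₂ x = x) ∧ ∀ y ∈ T₂, apl β₂ y = apl a₂ y := by
    revert β₂'
    rw [sup_comm T₂ T₁]
    exact fun β₂' h₁ h₂ h₃ => ⟨β₂', h₁, h₃, h₂⟩
  have hN := hβ₁.mul hβ₂N
  have hTS : T₁ ⊔ T₂ ≤ S := sup_le h.T₁_le h.T₂_le
  have hm := iso_apl (AM.cc_le (U := S) hTS) hN.1
  have hval : ∀ x ∈ T₁ ⊔ T₂, apl (β₁ * β₂) x = apl α x := fun q hq => by
    obtain ⟨x, hx, y, hy, rfl⟩ := h.exists_mul hq
    have hx' : x ∈ AM.cc S (T₁ ⊔ T₂) := AM.le_cc (Subgroup.mem_sup_left hx)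
    have hy' : y ∈ AM.cc S (T₁ ⊔ T₂) := AM.le_cc (Subgroup.mem_sup_right hy)
    rw [hm.1.map_mul hx' hy', apl_mul _ _ hx', apl_mul _ _ hy', hβ₂x' x hx, hβ₂y' y hy,
      hβ₁x x hx, hβ₁y _ (apl_mem a₂ hy), ha₁x x hx, ha₂x y hy, hφ x hx y hy hq]
  refine ⟨β₁ * β₂, hN.1, fun x => ?_, fun c hc => ?_⟩
  · exact (apl_apply (β₁ * β₂) (AM.le_cc (U := S) x.2)).symm.trans
      ((hval x x.2).trans (apl_apply α x.2))
  · have h1 := hN.2 c c.2
    obtain ⟨T', hT'⟩ : ∃ T', Iso F (T₁ ⊔ T₂) T' (apl (β₁ * β₂)) :=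
      (hm.1.mono AM.le_cc).exists_iso
    obtain rfl : T' = T₁ ⊔ T₂ := hT'.eq_image
      ⟨hm.1.mono AM.le_cc, fun y => ⟨fun hy => by
          obtain ⟨x, hx, rfl⟩ := hαi.exists_eq hy
          exact ⟨x, hx, hval x hx⟩,
        fun ⟨x, hx, hxy⟩ => hxy ▸ (hval x hx).symm ▸ apl_mem α hx⟩⟩
    have hβc : apl (β₁ * β₂) c ∈ centralizerIn S (T₁ ⊔ T₂) :=
      AM.centralizerIn_image AM.stronglyClosed_self hm.1 hT' hc
    have hβc' : ((β₁ * β₂) c : Ω) ∈ centralizerIn S (T₁ ⊔ T₂) := by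
      rw [← apl_coe (β₁ * β₂) c]; exact hβc
    have h1' : (c : Ω)⁻¹ * ((β₁ * β₂) c : Ω) ∈ T₁ ⊔ T₂ := by
      rw [← apl_coe (β₁ * β₂) c]; exact h1
    exact ⟨h1', Subgroup.mul_mem _ (Subgroup.inv_mem _ hc.2) hβc'.2⟩

end Duo

section General

variable [Fact p.Prime] [Finite S]

/-- An abelian meet is central in the residual. -/
theorem isCentral_residual [Finite T] (hS : IsPGroup p S) {E : FusionSystem T}
    (hE : E.IsNormalIn F p) {Z : Subgroup Ω} (hZT : Z ≤ T) (hZ : F.StronglyClosed Z)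
    (hc : ∀ z ∈ Z, ∀ t ∈ T, t * z = z * t) :
    (clsSys (goodGam_gamMin (F := E) (p := p))).IsCentral Z := by
  have hTS := hE.1.2.2.2.1.1
  have hTp := hS.to_le hTS
  have hG := goodGam_gamMin (F := E) (p := p)
  have hsubF : ∀ {Q : Subgroup Ω} {f : Ω → Ω}, Mor E Q f → Mor F Q f := fun h =>
    sub_of_invariant hE.1.2.2 h
  have hmem : ∀ {R : Subgroup Ω}, E.IsCentric R → Z ≤ R := fun hR z hz =>
    centric_self hR ⟨hZT hz, Subgroup.mem_centralizer_iff.2 fun t ht => hc z hz t (hR.1 ht)⟩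
  let M : Subgroup Ω → (Ω → Ω) → Prop := fun P f => Mor E P f ∧
    ∃ g, Mor E (P ⊔ Z) g ∧ (∀ x ∈ P, g x = f x) ∧ ∀ z ∈ Z, g z = z
  have hM : SubRel E T M :=
    { congr := by
        rintro P f g ⟨h1, k, hk, hkf, hkZ⟩ he
        exact ⟨h1.congr he, k, hk, fun x hx => (hkf x hx).trans (he x hx).symm, hkZ⟩
      le := fun h1 => ⟨h1.1.le, fun _ hx => h1.1.mem_S hx⟩
      conj := by
        intro P s hP hs
        exact ⟨mor_conj hP hs, mor_conj hP hs, _, mor_conj (sup_le hP hZT) hs, fun _ _ => rfl,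
          fun z hz => by rw [hc z hz s hs, mul_inv_cancel_right]⟩
      comp := by
        rintro P Q f g hf ⟨-, a, ha, haf, haZ⟩ hg ⟨-, b, hb, hbg, hbZ⟩ hfQ
        refine ⟨hf.comp hg hfQ, b ∘ a, ha.comp hb fun x hx => AM.maps_sup ha le_sup_left le_sup_right
          (fun y hy => by rw [haf y hy]; exact Subgroup.mem_sup_left (hfQ y hy))
          (fun y hy => by rw [haZ y hy]; exact Subgroup.mem_sup_right hy) hx,
          fun x hx => ?_, fun y hy => ?_⟩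
        · show b (a x) = g (f x)
          rw [haf x hx, hbg _ (hfQ x hx)]
        · show b (a y) = y
          rw [haZ y hy, hbZ y hy]
      inv := by
        rintro P Q f g hf ⟨-, a, ha, haf, haZ⟩ hg hgf
        obtain ⟨M, hM⟩ := ha.exists_iso
        obtain ⟨b, hb, hba, -⟩ := hM.symm
        have hle : Q ⊔ Z ≤ M := sup_le (fun y hy => by
          obtain ⟨x, hx, rfl⟩ := hf.exists_eq hy
          rw [← haf x hx]
          exact hM.mem (Subgroup.mem_sup_left hx)) fun y hy => by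
          rw [← haZ y hy]
          exact hM.mem (Subgroup.mem_sup_right hy)
        refine ⟨hg.1, b, hb.1.mono hle, fun y hy => ?_, fun y hy => ?_⟩
        · obtain ⟨x, hx, rfl⟩ := hf.exists_eq hy
          rw [hgf x hx, ← haf x hx, hba x (Subgroup.mem_sup_left hx)]
        · conv_lhs => rw [← haZ y hy]
          exact hba y (Subgroup.mem_sup_right hy) }
  -- `p`-automorphisms fix `Z`
  have hpfix : ∀ {R : Subgroup Ω}, E.IsCentric R → ∀ α ∈ E.autGroup R, ∀ k : ℕ, α ^ p ^ k = 1 →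
      ∀ z ∈ Z, apl α z = z := by
    intro R hR α hα k hk z hz
    have hRT := hR.1
    obtain ⟨Q, j, hQ, -, hji, -⟩ := exists_fullyNormalized_mor hS hE.1.2.1 (hRT.trans hTS)
    have hQT : Q ≤ T := AM.iso_le_T hE.1.2.2.2.1 hji hRT
    obtain ⟨b, hb, t, ht, htx⟩ := exists_conj_pElement hS hE.1.2.1 hE.1 hQT hQ
      (conjAut_mem_of_isInvariant hE.1.2.2 hRT hji hα) (k := k) (by rw [← map_pow, hk, map_one])
    have hzR := hmem hR hz
    have hjz : j z ∈ Z := StronglyClosed.mor_mem hZ hji.1 hzR hz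
    have hbz : apl b (j z) ∈ Z :=
      StronglyClosed.mor_mem hZ (hsubF (iso_apl hQT hb).1) (hji.mem hzR) hjz
    have h1 := htx _ (apl_mem b (hji.mem hzR))
    rw [apl_mul _ _ (apl_mem b (hji.mem hzR)), apl_inv_apl b (hji.mem hzR),
      apl_mul _ _ (hji.mem hzR), hji.conjAut_apl α hzR,
      show t * apl b (j z) * t⁻¹ = apl b (j z) by rw [hc _ hbz t ht.1, mul_inv_cancel_right]] at h1
    exact hji.1.injOn (apl_mem α hzR) hzR
      ((iso_apl hQT hb).1.injOn (hji.mem (apl_mem α hzR)) (hji.mem hzR) h1)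
  have hgen : ∀ {R : Subgroup Ω}, E.IsCentric R → ∀ α ∈ E.autGroup R, ∀ k : ℕ, α ^ p ^ k = 1 →
      M R (apl α) := fun {R} hR α hα k hk =>
    ⟨(iso_apl hR.1 hα).1, apl α, (iso_apl hR.1 hα).1.mono (sup_le le_rfl (hmem hR)), fun _ _ => rfl,
      hpfix hR α hα k hk⟩
  have hcont : ContainsCentricOp (subSys hM) E p := by
    intro R hR
    rw [opPrime, MonoidHom.map_closure, Subgroup.closure_le]
    rintro _ ⟨⟨α, hα⟩, ⟨k, hk⟩, rfl⟩
    rw [Subgroup.orderOf_mk] at hk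
    exact Subgroup.subset_closure (((mor_subSys hM).2
      ⟨(iso_apl hR.1 hα).1, hgen hR α hα k (by rw [← hk]; exact pow_orderOf_eq_one α)⟩).hom_eq
      fun x => (apl_coe α x).symm)
  have hminM : ∀ {P : Subgroup Ω} {f : Ω → Ω}, Mor (minOp E p) P f → M P f := fun {P f} hf =>
    ((mor_subSys hM).1 (le_iff_mor.1 (minOp_le_of hcont) P f hf)).2
  have hgam : ∀ γ ∈ gamMin E p, ∀ z ∈ Z, apl γ z = z := by
    intro γ hγ
    induction hγ using Subgroup.closure_induction with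
    | mem β hβ =>
      obtain ⟨hβE, R, hR, hm⟩ := hβ
      obtain ⟨-, g, -, hgx, hgZ⟩ := hminM hm
      intro z hz
      rw [← hgx z (hmem hR hz), hgZ z hz]
    | one => intro z hz; exact apl_one (hZT hz)
    | mul a b _ _ iha ihb =>
      intro z hz
      rw [apl_mul _ _ (hZT hz), ihb z hz, iha z hz]
    | inv a _ iha =>
      intro z hz
      conv_lhs => rw [← iha z hz]
      rw [apl_inv_apl a (hZT hz)]
  refine isCentral_iff.2 ⟨hZT, fun P f hf => ?_⟩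
  obtain ⟨-, γ, hγ, e, he, hef⟩ := (mor_clsSys hG).1 hf
  obtain ⟨-, g, hg, hge, hgZ⟩ := hminM he
  -- the extension lies in the least system
  let M' : Subgroup Ω → (Ω → Ω) → Prop := fun P f => Mor (minOp E p) P f ∧
    ∃ g, Mor (minOp E p) (P ⊔ Z) g ∧ (∀ x ∈ P, g x = f x) ∧ ∀ z ∈ Z, g z = z
  have hM' : SubRel E T M' :=
    { congr := by
        rintro P f g ⟨h1, k, hk, hkf, hkZ⟩ he
        exact ⟨h1.congr he, k, hk, fun x hx => (hkf x hx).trans (he x hx).symm, hkZ⟩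
      le := fun h1 => ⟨h1.1.le, fun _ hx => h1.1.mem_S hx⟩
      conj := by
        intro P s hP hs
        exact ⟨mor_conj hP hs, mor_conj hP hs, _, mor_conj (sup_le hP hZT) hs, fun _ _ => rfl,
          fun z hz => by rw [hc z hz s hs, mul_inv_cancel_right]⟩
      comp := by
        rintro P Q f g - ⟨hf, a, ha, haf, haZ⟩ - ⟨hg, b, hb, hbg, hbZ⟩ hfQ
        refine ⟨hf.comp hg hfQ, b ∘ a, ha.comp hb fun x hx => AM.maps_sup ha le_sup_left le_sup_right
          (fun y hy => by rw [haf y hy]; exact Subgroup.mem_sup_left (hfQ y hy))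
          (fun y hy => by rw [haZ y hy]; exact Subgroup.mem_sup_right hy) hx,
          fun x hx => ?_, fun y hy => ?_⟩
        · show b (a x) = g (f x)
          rw [haf x hx, hbg _ (hfQ x hx)]
        · show b (a y) = y
          rw [haZ y hy, hbZ y hy]
      inv := by
        rintro P Q f g hf ⟨hf', a, ha, haf, haZ⟩ hg hgf
        obtain ⟨M, hM⟩ := ha.exists_iso
        obtain ⟨b, hb, hba, -⟩ := hM.symm
        have hle : Q ⊔ Z ≤ M := sup_le (fun y hy => by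
          obtain ⟨x, hx, rfl⟩ := hf.exists_eq hy
          rw [← haf x hx]
          exact hM.mem (Subgroup.mem_sup_left hx)) fun y hy => by
          rw [← haZ y hy]
          exact hM.mem (Subgroup.mem_sup_right hy)
        have hbx : ∀ y ∈ Q, b y = g y := fun y hy => by
          obtain ⟨x, hx, rfl⟩ := hf.exists_eq hy
          rw [hgf x hx, ← haf x hx, hba x (Subgroup.mem_sup_left hx)]
        refine ⟨(hb.1.mono (le_sup_left.trans hle)).congr fun y hy => (hbx y hy).symm,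
          b, hb.1.mono hle, hbx, fun y hy => ?_⟩
        conv_lhs => rw [← haZ y hy]
        exact hba y (Subgroup.mem_sup_right hy) }
  have hcont' : ContainsCentricOp (subSys hM') E p := by
    intro R hR
    rw [opPrime, MonoidHom.map_closure, Subgroup.closure_le]
    rintro _ ⟨⟨α, hα⟩, ⟨k, hk⟩, rfl⟩
    rw [Subgroup.orderOf_mk] at hk
    have hm : Mor (minOp E p) R (apl α) := mor_minOp_of_mem hR (mem_opPrime hα hk)
    exact Subgroup.subset_closure (((mor_subSys hM').2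
      ⟨(iso_apl hR.1 hα).1, hm, apl α, hm.mono (sup_le le_rfl (hmem hR)), fun _ _ => rfl,
        hpfix hR α hα k (by rw [← hk]; exact pow_orderOf_eq_one α)⟩).hom_eq
      fun x => (apl_coe α x).symm)
  obtain ⟨-, -, g', hg', hg'e, hg'Z⟩ :=
    (mor_subSys hM').1 (le_iff_mor.1 (minOp_le_of hcont') P e he)
  refine ⟨apl γ ∘ g', (mor_clsSys hG).2 ⟨Subgroup.one_mem _, γ, hγ, g', hg',
    fun x hx => by rw [one_mul]; rfl⟩, fun x hx => ?_, fun z hz => ?_⟩
  · show apl γ (g' x) = f x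
    rw [hg'e x hx, hef x hx, one_mul]
  · show apl γ (g' z) = z
    rw [hg'Z z hz, hgam γ hγ z hz]

/-- The theorem. -/
theorem exists_product (hS : IsPGroup p S) (hF : F.IsSaturated p) (h₁ : E₁.IsNormalIn F p)
    (h₂ : E₂.IsNormalIn F p) (hc : ⁅T₁, T₂⁆ = ⊥) :
    ∃ D : FusionSystem (T₁ ⊔ T₂), D.IsNormalIn F p ∧
      (T₁ ⊓ T₂ ≤ E₁.center → T₁ ⊓ T₂ ≤ E₂.center → IsCentralProductOf E₁ E₂ D) := by
  have hcomm : ∀ x ∈ T₁, ∀ y ∈ T₂, x * y = y * x := fun x hx y hy =>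
    (commutatorElement_eq_one_iff_mul_comm.1
      ((Subgroup.eq_bot_iff_forall _).1 hc _ (Subgroup.commutator_mem_commutator hx hy)))
  by_cases hz : T₁ ⊓ T₂ ≤ E₁.center ∧ T₁ ⊓ T₂ ≤ E₂.center
  · obtain ⟨D, hD, hDc⟩ := (⟨hS, hF, h₁, h₂, hcomm, hz.1, hz.2⟩ : Duo p F E₁ E₂).exists_normal
    exact ⟨D, hD, fun _ _ => hDc⟩
  · have hT₁ := h₁.1.2.2.2.1
    have hT₂ := h₂.1.2.2.2.1
    haveI := finite_of_le hT₁.1
    haveI := finite_of_le hT₂.1
    have hZ : F.StronglyClosed (T₁ ⊓ T₂) := stronglyClosed_iff.2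
      ⟨inf_le_left.trans hT₁.1, fun R f hR hf x hx =>
        ⟨StronglyClosed.mor_mem hT₁ hf hx (hR hx).1, StronglyClosed.mor_mem hT₂ hf hx (hR hx).2⟩⟩
    obtain ⟨D, hD, -⟩ := (⟨hS, hF, pPrimeResidual_normal hS h₁.1, pPrimeResidual_normal hS h₂.1, hcomm,
      le_center (isCentral_residual hS h₁ inf_le_left hZ fun z hz t ht => hcomm t ht z hz.2),
      le_center (isCentral_residual hS h₂ inf_le_right hZ fun z hz t ht =>
        (hcomm z hz.1 t ht).symm)⟩ :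
      Duo p F (clsSys (goodGam_gamMin (F := E₁) (p := p)))
        (clsSys (goodGam_gamMin (F := E₂) (p := p)))).exists_normal
    exact ⟨D, hD, fun a b => absurd ⟨a, b⟩ hz⟩

end General

end Cfsg.Agent.FusSys.Commuting
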