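import Cfsg.Agent.FusSys.Commuting.Lift
import Cfsg.Agent.FusSys.Product
import Cfsg.Agent.FusSys.Factor

/-!
The central product system over two commuting subgroups inside the ambient system.
-/

set_option autoImplicit false
set_option linter.unusedSectionVars false
set_option linter.style.haveILetI false
set_option linter.unusedVariables false
set_option maxHeartbeats 400000

namespace Cfsg.Agent.FusSys.Commuting

open Cfsg Cfsg.FusionSystem Cfsg.Agent.FusSys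

universe u

variable {Ω : Type u} [Group Ω] {S T T₁ T₂ : Subgroup Ω} {F : FusionSystem S}
variable {E₁ : FusionSystem T₁} {E₂ : FusionSystem T₂}
variable {P Q R : Subgroup Ω} {f g : Ω → Ω} {p : ℕ}

/-- The projection of `P` to the first factor. -/
def proj (T₁ T₂ P : Subgroup Ω) : Subgroup Ω := (P ⊔ T₂) ⊓ T₁

theorem proj_le : proj T₁ T₂ P ≤ T₁ := inf_le_right

/-- The maps of the central product. -/
def DMor (E₁ : FusionSystem T₁) (E₂ : FusionSystem T₂) (P : Subgroup Ω) (f : Ω → Ω) : Prop :=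
  P ≤ T₁ ⊔ T₂ ∧ ∃ φ₁ φ₂, Mor E₁ (proj T₁ T₂ P) φ₁ ∧ Mor E₂ (proj T₂ T₁ P) φ₂ ∧
    ∀ x ∈ T₁, ∀ y ∈ T₂, x * y ∈ P → f (x * y) = φ₁ x * φ₂ y

namespace Duo

variable (h : Duo p F E₁ E₂)
include h

theorem T₁_le_normalizer : T₁ ≤ Subgroup.normalizer (T₂ : Set Ω) := fun x hx =>
  Subgroup.centralizer_le_normalizer _
    (Subgroup.mem_centralizer_iff.2 fun y hy => (h.comm x hx y hy).symm)

theorem exists_mul {q : Ω} (hq : q ∈ T₁ ⊔ T₂) : ∃ x ∈ T₁, ∃ y ∈ T₂, x * y = q := by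
  rw [← SetLike.mem_coe, Subgroup.coe_mul_of_left_le_normalizer_right _ _ h.T₁_le_normalizer] at hq
  exact hq

theorem mul_mul {x x' y y' : Ω} (hx' : x' ∈ T₁) (hy : y ∈ T₂) :
    x * y * (x' * y') = x * x' * (y * y') := by
  rw [mul_assoc, ← mul_assoc y, ← h.comm x' hx' y hy]
  simp only [mul_assoc]

theorem left_mem_proj {x y : Ω} (hx : x ∈ T₁) (hy : y ∈ T₂) (hxy : x * y ∈ P) :
    x ∈ proj T₁ T₂ P := by
  refine ⟨?_, hx⟩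
  have h1 := (P ⊔ T₂).mul_mem (Subgroup.mem_sup_left hxy) (Subgroup.mem_sup_right (T₂.inv_mem hy))
  rwa [mul_inv_cancel_right] at h1

theorem right_mem_proj {x y : Ω} (hx : x ∈ T₁) (hy : y ∈ T₂) (hxy : x * y ∈ P) :
    y ∈ proj T₂ T₁ P := by
  rw [h.comm x hx y hy] at hxy
  exact h.swap.left_mem_proj hy hx hxy

theorem exists_of_mem_proj (hP : P ≤ T₁ ⊔ T₂) {x : Ω} (hx : x ∈ proj T₁ T₂ P) :
    ∃ y ∈ T₂, x * y ∈ P := by
  obtain ⟨hx1, hx2⟩ := hx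
  have hn : P ≤ Subgroup.normalizer (T₂ : Set Ω) := hP.trans (sup_le h.T₁_le_normalizer Subgroup.le_normalizer)
  replace hx1 : x ∈ ((P ⊔ T₂ : Subgroup Ω) : Set Ω) := hx1
  rw [Subgroup.coe_mul_of_left_le_normalizer_right _ _ hn] at hx1
  obtain ⟨q, hq, y, hy, hqy⟩ := hx1
  refine ⟨y⁻¹, T₂.inv_mem hy, ?_⟩
  rw [← hqy, mul_inv_cancel_right]
  exact hq

variable [Fact p.Prime] [Finite S]

/-- A map of the second factor fixing the first, composed after one of the first fixing the second. -/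
theorem dmor_F (hf : DMor E₁ E₂ P f) : Mor F P f := by
  obtain ⟨hP, φ₁, φ₂, h₁, h₂, hf⟩ := hf
  obtain ⟨a, ha, hax, haU⟩ := h.extFix h₁
  obtain ⟨b, hb, hbx, hbU⟩ := h.swap.extFix h₂
  have hPle : P ≤ proj T₁ T₂ P ⊔ T₂ := fun q hq => by
    obtain ⟨x, hx, y, hy, rfl⟩ := h.exists_mul (hP hq)
    exact Subgroup.mul_mem_sup (h.left_mem_proj hx hy hq) hy
  have hval : ∀ x ∈ T₁, ∀ y ∈ T₂, x * y ∈ P → a (x * y) = φ₁ x * y := fun x hx y hy hxy => by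
    have hxp := h.left_mem_proj hx hy hxy
    rw [ha.map_mul (Subgroup.mem_sup_left hxp) (Subgroup.mem_sup_right hy), hax x hxp, haU y hy]
  refine ((ha.mono hPle).comp hb fun q hq => ?_).congr fun q hq => ?_
  · obtain ⟨x, hx, y, hy, rfl⟩ := h.exists_mul (hP hq)
    rw [hval x hx y hy hq]
    exact Subgroup.mul_mem _ (Subgroup.mem_sup_right (h₁.mem_S (h.left_mem_proj hx hy hq)))
      (Subgroup.mem_sup_left (h.right_mem_proj hx hy hq))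
  · obtain ⟨x, hx, y, hy, rfl⟩ := h.exists_mul (hP hq)
    have h1T := h₁.mem_S (h.left_mem_proj hx hy hq)
    show f (x * y) = b (a (x * y))
    rw [hval x hx y hy hq, hb.map_mul (Subgroup.mem_sup_right h1T)
      (Subgroup.mem_sup_left (h.right_mem_proj hx hy hq)), hbU _ h1T,
      hbx _ (h.right_mem_proj hx hy hq), hf x hx y hy hq]

/-- The central product. -/
theorem exists_sys : ∃ D : FusionSystem (T₁ ⊔ T₂), D.IsSaturated p ∧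
    IsCentralProductOf E₁ E₂ D ∧ ∀ P f, Mor D P f ↔ DMor E₁ E₂ P f := by
  haveI := finite_of_le h.T₁_le
  haveI := finite_of_le h.T₂_le
  have hp₁ := h.pS.to_le h.T₁_le
  have hp₂ := h.pS.to_le h.T₂_le
  obtain ⟨D₀, hD₀⟩ := exists_productSystem E₁ E₂
  haveI : Finite ↥(T₁.prod T₂) := Finite.of_equiv _ (Subgroup.prodEquiv T₁ T₂).symm.toEquiv
  have hp₀ : IsPGroup p ↥(T₁.prod T₂) :=
    (isPGroup_prod hp₁ hp₂).of_equiv (Subgroup.prodEquiv T₁ T₂).symm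
  have hD₀s : D₀.IsSaturated p := product_saturated hp₁ hp₂ h.n₁.1.1 h.n₂.1.1 hD₀
  let θ : ↥(T₁.prod T₂) →* Ω :=
    { toFun := fun z => z.1.1 * z.1.2
      map_one' := mul_one _
      map_mul' := fun z w => (h.mul_mul w.2.1 z.2.2).symm }
  obtain ⟨Z', hZ'⟩ : ∃ Z', Z' = θ.ker.map (T₁.prod T₂).subtype := ⟨_, rfl⟩
  have hmemZ : ∀ z : Ω × Ω, z ∈ Z' ↔ z.1 ∈ T₁ ⊓ T₂ ∧ z.2 = z.1⁻¹ := fun z => by
    rw [hZ']
    constructor
    · rintro ⟨w, hw, rfl⟩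
      have e : w.1.1 * w.1.2 = 1 := hw
      have e2 : w.1.2 = w.1.1⁻¹ := eq_inv_of_mul_eq_one_right e
      have h22 : w.1.2 ∈ T₂ := w.2.2
      rw [e2] at h22
      exact ⟨⟨w.2.1, (Subgroup.inv_mem_iff T₂).1 h22⟩, e2⟩
    · rintro ⟨h1, h2⟩
      exact ⟨⟨z, h1.1, h2.symm ▸ T₂.inv_mem h1.2⟩, show z.1 * z.2 = 1 by rw [h2, mul_inv_cancel],
        rfl⟩
  have hker : ∀ s : ↥(T₁.prod T₂), θ s = 1 ↔ (s : Ω × Ω) ∈ Z' := fun s => by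
    rw [hZ']
    exact ⟨fun hs => ⟨s, hs, rfl⟩, fun ⟨w, hw, hws⟩ => Subtype.ext hws ▸ hw⟩
  have hcen : D₀.IsCentral Z' := by
    refine isCentral_iff.2 ⟨fun z hz => ?_, fun P f hf => ?_⟩
    · obtain ⟨h1, h2⟩ := (hmemZ z).1 hz
      exact ⟨h1.1, h2.symm ▸ T₂.inv_mem h1.2⟩
    obtain ⟨hP, f₁, f₂, hf₁, hf₂, hfx⟩ := (mor_product hD₀).1 hf
    obtain ⟨g₁, hg₁, hg₁f, hg₁Z⟩ :=
      (isCentral_iff.1 (Component.isCentral_mono (isCentral_center (F := E₁)) h.c₁)).2 _ _ hf₁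
    obtain ⟨g₂, hg₂, hg₂f, hg₂Z⟩ :=
      (isCentral_iff.1 (Component.isCentral_mono (isCentral_center (F := E₂)) h.c₂)).2 _ _ hf₂
    refine ⟨fun z => (g₁ z.1, g₂ z.2), (mor_product hD₀).2
      ⟨sup_le hP fun z hz => ?_, g₁, g₂, hg₁.mono ?_, hg₂.mono ?_, fun _ _ => rfl⟩,
      fun x hx => ?_, fun z hz => ?_⟩
    · obtain ⟨h1, h2⟩ := (hmemZ z).1 hz
      exact ⟨h1.1, h2.symm ▸ T₂.inv_mem h1.2⟩
    · rw [Subgroup.map_sup]
      refine sup_le_sup le_rfl ?_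
      rintro _ ⟨z, hz, rfl⟩
      exact ((hmemZ z).1 hz).1
    · rw [Subgroup.map_sup]
      refine sup_le_sup le_rfl ?_
      rintro _ ⟨z, hz, rfl⟩
      show z.2 ∈ T₁ ⊓ T₂
      rw [((hmemZ z).1 hz).2]
      exact inv_mem ((hmemZ z).1 hz).1
    · show (g₁ x.1, g₂ x.2) = f x
      rw [hfx x hx, hg₁f _ (fst_mem hx), hg₂f _ (snd_mem hx)]
    · obtain ⟨h1, h2⟩ := (hmemZ z).1 hz
      exact Prod.ext (hg₁Z _ h1) (hg₂Z _ (h2.symm ▸ Subgroup.inv_mem _ h1))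
  have hsc : D₀.StronglyClosed Z' := stronglyClosed_iff.2 ⟨hcen.1, fun R f hR hf x hx => by
    obtain ⟨g, -, hgf, hgZ⟩ := (isCentral_iff.1 hcen).2 R f hf
    rw [← hgf x hx, hgZ x (hR hx)]
    exact hR hx⟩
  have hrange : θ.range = T₁ ⊔ T₂ := le_antisymm
    (by rintro _ ⟨z, rfl⟩; exact Subgroup.mul_mem_sup z.2.1 z.2.2)
    fun q hq => by
      obtain ⟨x, hx, y, hy, rfl⟩ := h.exists_mul hq
      exact ⟨⟨(x, y), hx, hy⟩, rfl⟩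
  obtain ⟨D, hD⟩ := exists_factorSystem hsc hker hrange
  refine ⟨D, factor_saturated hp₀ hD₀s hD hsc, ⟨D₀, hD₀, Z', θ, le_center hcen, ?_, ?_,
    fun x hx => mul_one x, fun y hy => one_mul y, hD⟩, fun P f => ?_⟩
  · refine eq_bot_iff.2 fun z hz => ?_
    obtain ⟨hz1, -, hz2⟩ := hz
    obtain ⟨-, h2⟩ := (hmemZ z).1 hz1
    replace hz2 : z.2 ∈ (⊥ : Subgroup Ω) := hz2
    rw [Subgroup.mem_bot] at hz2
    exact Prod.ext (inv_eq_one.1 (h2.symm.trans hz2)) hz2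
  · refine eq_bot_iff.2 fun z hz => ?_
    obtain ⟨hz1, hz2, -⟩ := hz
    obtain ⟨-, h2⟩ := (hmemZ z).1 hz1
    replace hz2 : z.1 ∈ (⊥ : Subgroup Ω) := hz2
    rw [Subgroup.mem_bot] at hz2
    exact Prod.ext hz2 (by rw [h2, hz2, inv_one]; rfl)
  -- the maps
  have hth : ∀ {z : Ω × Ω}, z ∈ T₁.prod T₂ → thFn θ z = z.1 * z.2 := fun {z} hz =>
    thFn_apply hz
  have hpre : ∀ {z : Ω × Ω}, z ∈ preimageAlong θ P ↔ z.1 ∈ T₁ ∧ z.2 ∈ T₂ ∧ z.1 * z.2 ∈ P :=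
    fun {z} => by
      rw [mem_pre]
      exact ⟨fun hz => ⟨hz.1.1, hz.1.2, hth hz.1 ▸ hz.2⟩,
        fun hz => ⟨⟨hz.1, hz.2.1⟩, by rw [hth ⟨hz.1, hz.2.1⟩]; exact hz.2.2⟩⟩
  constructor
  · intro hf
    obtain ⟨hP, g, hg, hgf⟩ := (mor_factor hD hsc).1 hf
    obtain ⟨-, f₁, f₂, hf₁, hf₂, hgx⟩ := (mor_product hD₀).1 hg
    refine ⟨hP, f₁, f₂, hf₁.mono fun x hx => ?_, hf₂.mono fun y hy => ?_, fun x hx y hy hxy => ?_⟩
    · obtain ⟨y, hy, hxy⟩ := h.exists_of_mem_proj hP hx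
      exact ⟨(x, y), hpre.2 ⟨proj_le hx, hy, hxy⟩, rfl⟩
    · obtain ⟨x, hx, hyx⟩ := h.swap.exists_of_mem_proj (by rwa [sup_comm]) hy
      exact ⟨(x, y), hpre.2 ⟨hx, proj_le hy, by rw [h.comm x hx y (proj_le hy)]; exact hyx⟩, rfl⟩
    · have hz : (x, y) ∈ preimageAlong θ P := hpre.2 ⟨hx, hy, hxy⟩
      have h1 := hgf _ hz
      rw [hth (hpre.1 hz |> fun w => ⟨w.1, w.2.1⟩), hth (show g (x, y) ∈ T₁.prod T₂ from hg.mem_S hz),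
        hgx _ hz] at h1
      exact h1
  · rintro ⟨hP, φ₁, φ₂, h₁, h₂, hf⟩
    refine (mor_factor hD hsc).2 ⟨hP, fun z => (φ₁ z.1, φ₂ z.2), (mor_product hD₀).2
      ⟨pre_le, φ₁, φ₂, h₁.mono ?_, h₂.mono ?_, fun _ _ => rfl⟩, fun z hz => ?_⟩
    · rintro _ ⟨z, hz, rfl⟩
      exact h.left_mem_proj (hpre.1 hz).1 (hpre.1 hz).2.1 (hpre.1 hz).2.2
    · rintro _ ⟨z, hz, rfl⟩
      exact h.right_mem_proj (hpre.1 hz).1 (hpre.1 hz).2.1 (hpre.1 hz).2.2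
    · obtain ⟨hz1, hz2, hz3⟩ := hpre.1 hz
      rw [hth ⟨hz1, hz2⟩, hf _ hz1 _ hz2 hz3, hth ⟨h₁.mem_S (h.left_mem_proj hz1 hz2 hz3),
        h₂.mem_S (h.right_mem_proj hz1 hz2 hz3)⟩]

/-- The maps are carried around by the automorphisms of the product. -/
theorem dmor_transInv (hf : DMor E₁ E₂ P f) {β : MulAut ↥(T₁ ⊔ T₂)}
    (hβ : β ∈ F.autGroup (T₁ ⊔ T₂)) :
    ∃ k, DMor E₁ E₂ ((P.subgroupOf (T₁ ⊔ T₂)).map ((T₁ ⊔ T₂).subtype.comp β.toMonoidHom)) k ∧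
      ∀ x ∈ P, k (apl β x) = apl β (f x) := by
  obtain ⟨hP, φ₁, φ₂, h₁, h₂, hf⟩ := hf
  have hTS : T₁ ⊔ T₂ ≤ S := sup_le h.T₁_le h.T₂_le
  have hm := (iso_apl (F := F) hTS hβ).1
  have hm' := (iso_apl (F := F) hTS (Subgroup.inv_mem _ hβ)).1
  obtain ⟨b₁, hb₁, hb₁x⟩ :=
    (StronglyClosed.iso_self h.sc₁ hm le_sup_left).exists_mem_autGroup
  obtain ⟨b₂, hb₂, hb₂x⟩ :=
    (StronglyClosed.iso_self h.sc₂ hm le_sup_right).exists_mem_autGroup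
  obtain ⟨k₁, hk₁, hk₁x⟩ := exists_transport h.n₁.1.2.2 h₁ hb₁
  obtain ⟨k₂, hk₂, hk₂x⟩ := exists_transport h.n₂.1.2.2 h₂ hb₂
  obtain ⟨P', hP'⟩ : ∃ P', P' = (P.subgroupOf (T₁ ⊔ T₂)).map
    ((T₁ ⊔ T₂).subtype.comp β.toMonoidHom) := ⟨_, rfl⟩
  rw [← hP']
  have hmem : ∀ y, y ∈ P' ↔ ∃ x ∈ P, apl β x = y := fun y => hP' ▸ map_apl_eq hP
  have hinvP : ∀ y ∈ P', apl β⁻¹ y ∈ P := fun y hy => by
    obtain ⟨x, hx, rfl⟩ := (hmem y).1 hy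
    rw [apl_inv_apl β (hP hx)]; exact hx
  have hP'T : P' ≤ T₁ ⊔ T₂ := fun y hy => by
    obtain ⟨x, hx, rfl⟩ := (hmem y).1 hy
    exact apl_mem β (hP hx)
  have hi₁ : ∀ z ∈ T₁, apl β⁻¹ z ∈ T₁ := fun z hz =>
    StronglyClosed.mor_mem h.sc₁ hm' (Subgroup.mem_sup_left hz) hz
  have hi₂ : ∀ z ∈ T₂, apl β⁻¹ z ∈ T₂ := fun z hz =>
    StronglyClosed.mor_mem h.sc₂ hm' (Subgroup.mem_sup_right hz) hz
  have hproj₁ : proj T₁ T₂ P' ≤ ((proj T₁ T₂ P).subgroupOf T₁).map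
      (T₁.subtype.comp b₁.toMonoidHom) := fun z hz => by
    obtain ⟨hz1, hz2⟩ := hz
    have hw : apl β⁻¹ z ∈ proj T₁ T₂ P := ⟨AM.maps_sup hm' hP'T le_sup_right
      (fun w hw => Subgroup.mem_sup_left (hinvP w hw))
      (fun w hw => Subgroup.mem_sup_right (hi₂ w hw)) hz1, hi₁ z hz2⟩
    exact (map_apl_eq proj_le).2 ⟨_, hw, by
      rw [hb₁x _ (proj_le hw), apl_apl_inv β (Subgroup.mem_sup_left hz2)]⟩
  have hproj₂ : proj T₂ T₁ P' ≤ ((proj T₂ T₁ P).subgroupOf T₂).map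
      (T₂.subtype.comp b₂.toMonoidHom) := fun z hz => by
    obtain ⟨hz1, hz2⟩ := hz
    have hw : apl β⁻¹ z ∈ proj T₂ T₁ P := ⟨AM.maps_sup hm' hP'T le_sup_left
      (fun w hw => Subgroup.mem_sup_left (hinvP w hw))
      (fun w hw => Subgroup.mem_sup_right (hi₁ w hw)) hz1, hi₂ z hz2⟩
    exact (map_apl_eq proj_le).2 ⟨_, hw, by
      rw [hb₂x _ (proj_le hw), apl_apl_inv β (Subgroup.mem_sup_right hz2)]⟩
  have hval : ∀ q ∈ P, apl β (f q) = apl β (f (apl β⁻¹ (apl β q))) := fun q hq => by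
    rw [apl_inv_apl β (hP hq)]
  refine ⟨fun y => apl β (f (apl β⁻¹ y)), ⟨hP'T, k₁, k₂, hk₁.mono hproj₁, hk₂.mono hproj₂,
    fun x' hx' y' hy' hxy => ?_⟩, fun x hx => (hval x hx).symm⟩
  have hx := hi₁ x' hx'
  have hy := hi₂ y' hy'
  have e : apl β⁻¹ (x' * y') = apl β⁻¹ x' * apl β⁻¹ y' :=
    hm'.map_mul (Subgroup.mem_sup_left hx') (Subgroup.mem_sup_right hy')
  have hq : apl β⁻¹ x' * apl β⁻¹ y' ∈ P := e ▸ hinvP _ hxy
  have hxp := h.left_mem_proj hx hy hq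
  have hyp := h.right_mem_proj hx hy hq
  show apl β (f (apl β⁻¹ (x' * y'))) = k₁ x' * k₂ y'
  rw [e, hf _ hx _ hy hq, hm.map_mul (Subgroup.mem_sup_left (h₁.mem_S hxp))
    (Subgroup.mem_sup_right (h₂.mem_S hyp))]
  congr 1
  · rw [← hb₁x _ (h₁.mem_S hxp), ← hk₁x _ hxp, hb₁x _ hx,
      apl_apl_inv β (Subgroup.mem_sup_left hx')]
  · rw [← hb₂x _ (h₂.mem_S hyp), ← hk₂x _ hyp, hb₂x _ hy,
      apl_apl_inv β (Subgroup.mem_sup_right hy')]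

end Duo

end Cfsg.Agent.FusSys.Commuting
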